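import Mathlib

/-!
Roofs between bounded complexes.
-/

universe w v u

open CategoryTheory CategoryTheory.Limits

namespace Groth.Agent.Roofs

variable {A : Type u} [Category.{v} A] [Abelian A]

theorem isStrictlyLE_cone_id (K : CochainComplex A ℤ) (b : ℤ) [K.IsStrictlyLE b] :
    (CochainComplex.mappingCone (𝟙 K)).IsStrictlyLE b := by
  refine (CochainComplex.isStrictlyLE_iff _ _).2 fun n hn => (IsZero.iff_id_eq_zero _).2 ?_
  exact CochainComplex.mappingCone.ext_from _ (n + 1) n rfl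
    ((K.isZero_of_isStrictlyLE b (n + 1) (by omega)).eq_of_src _ _)
    ((K.isZero_of_isStrictlyLE b n (by omega)).eq_of_src _ _)

theorem nonempty_homotopy_zero_of_factor {K L : CochainComplex A ℤ} (φ : K ⟶ L)
    (g : CochainComplex.mappingCone (𝟙 K) ⟶ L) (h : CochainComplex.mappingCone.inr (𝟙 K) ≫ g = φ) :
    Nonempty (Homotopy φ 0) :=
  ⟨(Homotopy.ofEq h.symm).trans ((Homotopy.ofEq (by rw [Category.id_comp])).trans
    ((((CochainComplex.mappingCone.homotopyToZeroOfId K).compRight g).compLeft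
      (CochainComplex.mappingCone.inr (𝟙 K))).trans (Homotopy.ofEq (by rw [zero_comp, comp_zero]))))⟩

theorem exists_factor_of_homotopy_zero {K L : CochainComplex A ℤ} (φ : K ⟶ L) (H : Homotopy φ 0) :
    ∃ g : CochainComplex.mappingCone (𝟙 K) ⟶ L, CochainComplex.mappingCone.inr (𝟙 K) ≫ g = φ :=
  ⟨CochainComplex.mappingCone.desc (𝟙 K) (CochainComplex.HomComplex.Cochain.ofHomotopy H) φ (by simp),
    CochainComplex.mappingCone.inr_desc _ _ _ _⟩

theorem homotopy_truncLE {K L L' : CochainComplex A ℤ} (c : ℤ) [K.IsStrictlyLE c] [L.IsStrictlyLE c]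
    (d : K ⟶ L) (t : L ⟶ L') (H : Homotopy (d ≫ t) 0) :
    Nonempty (Homotopy (d ≫ inv (L.ιTruncLE c) ≫ CochainComplex.truncLEMap t c) 0) := by
  haveI := isStrictlyLE_cone_id K c
  obtain ⟨g, hg⟩ := exists_factor_of_homotopy_zero _ H
  refine nonempty_homotopy_zero_of_factor _
    (inv ((CochainComplex.mappingCone (𝟙 K)).ιTruncLE c) ≫ CochainComplex.truncLEMap g c) ?_
  haveI : Mono (CochainComplex.ιTruncLE L' c) := inferInstanceAs (Mono (HomologicalComplex.ιTruncLE L' (ComplexShape.embeddingUpIntLE c)))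
  rw [← cancel_mono (CochainComplex.ιTruncLE L' c)]
  simp only [Category.assoc, CochainComplex.ιTruncLE_naturality, IsIso.inv_hom_id_assoc, hg]

theorem exists_left [HasDerivedCategory.{w} A] (K L : CochainComplex A ℤ) (a' c : ℤ) [K.IsStrictlyLE c]
    [L.IsStrictlyGE a'] [L.IsStrictlyLE c] (f₁ f₂ : K ⟶ L)
    (h : DerivedCategory.Q.map f₁ = DerivedCategory.Q.map f₂) :
    ∃ (L' : CochainComplex A ℤ) (_ : L'.IsStrictlyGE a') (_ : L'.IsStrictlyLE c) (t : L ⟶ L'),
      QuasiIso t ∧ Nonempty (Homotopy (f₁ ≫ t) (f₂ ≫ t)) := by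
  let q := HomotopyCategory.quotient A (ComplexShape.up ℤ)
  let e := DerivedCategory.quotientCompQhIso A
  have hq : DerivedCategory.Qh.map (q.map f₁) = DerivedCategory.Qh.map (q.map f₂) := by
    have n₁ := e.hom.naturality f₁
    have n₂ := e.hom.naturality f₂
    rw [← h] at n₂
    exact (cancel_mono (e.hom.app L)).1 (n₁.trans n₂.symm)
  obtain ⟨Z, s, hs, hfs⟩ := (MorphismProperty.map_eq_iff_postcomp DerivedCategory.Qh
    (HomotopyCategory.quasiIso A (ComplexShape.up ℤ)) _ _).1 hq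
  obtain ⟨L'', rfl⟩ := HomotopyCategory.quotient_obj_surjective Z
  obtain ⟨t, rfl⟩ := q.map_surjective s
  haveI : QuasiIso t := (HomotopyCategory.quotient_map_mem_quasiIso_iff t).1 hs
  rw [← Functor.map_comp, ← Functor.map_comp] at hfs
  have H : Homotopy ((f₁ - f₂) ≫ t ≫ CochainComplex.πTruncGE L'' a') 0 :=
    (Homotopy.ofEq (by simp [Preadditive.sub_comp])).trans (Homotopy.equivSubZero
      ((HomotopyCategory.homotopyOfEq _ _ hfs).compRight (CochainComplex.πTruncGE L'' a')))
  haveI : QuasiIso (t ≫ CochainComplex.πTruncGE L'' a') := by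
    rw [CochainComplex.πTruncGE_naturality t a' |>.symm]
    haveI : QuasiIso (CochainComplex.truncGEMap t a') := (CochainComplex.quasiIso_truncGEMap_iff t a').2 inferInstance
    exact quasiIso_comp _ _
  haveI : QuasiIso (CochainComplex.truncLEMap (t ≫ CochainComplex.πTruncGE L'' a') c) :=
    (CochainComplex.quasiIso_truncLEMap_iff _ c).2 inferInstance
  obtain ⟨H'⟩ := homotopy_truncLE c (f₁ - f₂) (t ≫ CochainComplex.πTruncGE L'' a') H
  refine ⟨CochainComplex.truncLE (CochainComplex.truncGE L'' a') c, inferInstance, inferInstance,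
    inv (L.ιTruncLE c) ≫ CochainComplex.truncLEMap (t ≫ CochainComplex.πTruncGE L'' a') c, quasiIso_comp _ _, ?_⟩
  refine ⟨(Homotopy.ofEq ?_).trans ((H'.add (Homotopy.refl (f₂ ≫ inv (L.ιTruncLE c) ≫
    CochainComplex.truncLEMap (t ≫ CochainComplex.πTruncGE L'' a') c))).trans (Homotopy.ofEq (zero_add _)))⟩
  rw [← Preadditive.add_comp, sub_add_cancel]

theorem exists_right [HasDerivedCategory.{w} A] (K L : CochainComplex A ℤ) (c : ℤ) [K.IsStrictlyLE c]
    (f₁ f₂ : K ⟶ L) (h : DerivedCategory.Q.map f₁ = DerivedCategory.Q.map f₂) :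
    ∃ (K' : CochainComplex A ℤ) (_ : K'.IsStrictlyLE c) (s : K' ⟶ K),
      QuasiIso s ∧ Nonempty (Homotopy (s ≫ f₁) (s ≫ f₂)) := by
  let q := HomotopyCategory.quotient A (ComplexShape.up ℤ)
  let e := DerivedCategory.quotientCompQhIso A
  have hq : DerivedCategory.Qh.map (q.map f₁) = DerivedCategory.Qh.map (q.map f₂) := by
    have n₁ := e.hom.naturality f₁
    have n₂ := e.hom.naturality f₂
    rw [← h] at n₂
    exact (cancel_mono (e.hom.app L)).1 (n₁.trans n₂.symm)
  obtain ⟨Z, s, hs, hfs⟩ := (MorphismProperty.map_eq_iff_precomp DerivedCategory.Qh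
    (HomotopyCategory.quasiIso A (ComplexShape.up ℤ)) _ _).1 hq
  obtain ⟨K'', rfl⟩ := HomotopyCategory.quotient_obj_surjective Z
  obtain ⟨t, rfl⟩ := q.map_surjective s
  haveI : QuasiIso t := (HomotopyCategory.quotient_map_mem_quasiIso_iff t).1 hs
  rw [← Functor.map_comp, ← Functor.map_comp] at hfs
  haveI : QuasiIso (CochainComplex.ιTruncLE K'' c ≫ t) := by
    rw [← CochainComplex.ιTruncLE_naturality t c]
    haveI : QuasiIso (CochainComplex.truncLEMap t c) := (CochainComplex.quasiIso_truncLEMap_iff t c).2 inferInstance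
    exact quasiIso_comp _ _
  refine ⟨CochainComplex.truncLE K'' c, inferInstance, CochainComplex.ιTruncLE K'' c ≫ t, inferInstance, ?_⟩
  exact ⟨(Homotopy.ofEq (Category.assoc _ _ _)).trans
    (((HomotopyCategory.homotopyOfEq _ _ hfs).compLeft (CochainComplex.ιTruncLE K'' c)).trans
      (Homotopy.ofEq (Category.assoc _ _ _).symm))⟩

end Groth.Agent.Roofs
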